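import Groth.Agent.GITLib.TorsorSch
import Groth.Agent.RedPts.RankOne
import Groth.Agent.WittExt.Amitsur
import Mathlib.AlgebraicGeometry.Pullbacks
import Mathlib.AlgebraicGeometry.Morphisms.Flat

/-!
# fpqc torsors under the multiplicative and additive groups are Zariski locally trivial
-/

set_option autoImplicit false
set_option linter.style.haveILetI false

universe u

open CategoryTheory CategoryTheory.Limits MonoidalCategory CartesianMonoidalCategory MonObj AlgebraicGeometry
open scoped TensorProduct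

noncomputable section

namespace Groth.Agent.SGA1Torsor

variable {S : Scheme.{u}} {A : Type u} [CommRing A] (j : Spec (CommRingCat.of A) ⟶ S)

/-- The `S`-scheme of an `A`-algebra. -/
abbrev QA (R : Type u) [CommRing R] [Algebra A R] : Over S :=
  Over.mk (Spec.map (CommRingCat.ofHom (algebraMap A R)) ≫ j)

variable {R R' R'' : Type u} [CommRing R] [Algebra A R] [CommRing R'] [Algebra A R'] [CommRing R'']
  [Algebra A R'']

/-- The map of an algebra homomorphism. -/
def qmap (f : R →ₐ[A] R') : QA j R' ⟶ QA j R :=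
  Over.homMk (Spec.map (CommRingCat.ofHom f.toRingHom)) (by
    show Spec.map _ ≫ Spec.map _ ≫ j = Spec.map _ ≫ j
    rw [← Spec.map_comp_assoc, ← CommRingCat.ofHom_comp]
    congr 3
    exact f.comp_algebraMap)

theorem qmap_comp (f : R →ₐ[A] R') (g : R' →ₐ[A] R'') : qmap j g ≫ qmap j f = qmap j (g.comp f) :=
  Over.OverMorphism.ext (by
    show Spec.map _ ≫ Spec.map _ = Spec.map _
    rw [← Spec.map_comp]; rfl)

theorem qmap_comp' {Z : Over S} (f : R →ₐ[A] R') (g : R' →ₐ[A] R'') (x : QA j R ⟶ Z) :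
    qmap j g ≫ qmap j f ≫ x = qmap j (g.comp f) ≫ x := by
  rw [← Category.assoc, qmap_comp]

variable (R) in
/-- The functions on the scheme of an algebra. -/
def fn : Γ((QA j R).left, ⊤) ≃+* R := (Scheme.ΓSpecIso (CommRingCat.of R)).commRingCatIsoToRingEquiv

theorem fn_app (f : R →ₐ[A] R') (a : Γ((QA j R).left, ⊤)) :
    fn j R' ((qmap j f).left.appTop a) = f (fn j R a) :=
  congr($(Scheme.ΓSpecIso_naturality (CommRingCat.ofHom f.toRingHom)) a)

theorem app_symm (f : R →ₐ[A] R') (a : R) :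
    (qmap j f).left.appTop ((fn j R).symm a) = (fn j R').symm (f a) :=
  (fn j R').injective (by rw [fn_app, RingEquiv.apply_symm_apply, RingEquiv.apply_symm_apply])

/-- A point of the additive group. -/
def gaQ (a : R) : QA j R ⟶ Red.Ga S := RedPts.gaPt ((fn j R).symm a)

theorem gaQ_mul (a b : R) : gaQ j (a + b) = gaQ j a * gaQ j b := by
  rw [gaQ, map_add, RedPts.gaPt_add]; rfl

theorem comp_gaQ (f : R →ₐ[A] R') (a : R) : qmap j f ≫ gaQ j a = gaQ j (f a) := by
  rw [gaQ, RedPts.gaPt_comp, app_symm]; rfl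

theorem exists_gaQ (x : QA j R ⟶ Red.Ga S) : ∃ a : R, gaQ j a = x :=
  ⟨fn j R (Red.gaFn x), by rw [gaQ, RingEquiv.symm_apply_apply, RedPts.gaPt_gaFn]⟩

theorem gaQ_injective : Function.Injective (gaQ j (R := R)) := fun a b h =>
  (fn j R).symm.injective (by simpa [gaQ, RedPts.gaFn_gaPt] using congrArg Red.gaFn h)

/-- A point of the multiplicative group. -/
def gmQ (a : Rˣ) : QA j R ⟶ Red.Gm S := RedPts.gmPt (Units.map (fn j R).symm.toMonoidHom a)

theorem gmQ_mul (a b : Rˣ) : gmQ j (a * b) = gmQ j a * gmQ j b := by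
  rw [gmQ, map_mul, RedPts.gmPt_mul]; rfl

theorem comp_gmQ (f : R →ₐ[A] R') (a : Rˣ) : qmap j f ≫ gmQ j a = gmQ j (Units.map f.toMonoidHom a) := by
  refine RedPts.gm_injective ?_
  rw [RedPts.gm_comp, gmQ, gmQ, RedPts.gmFn_gmPt, RedPts.gmFn_gmPt]
  exact app_symm j f a

theorem exists_gmQ (x : QA j R ⟶ Red.Gm S) : ∃ a : Rˣ, gmQ j a = x :=
  ⟨Units.map (fn j R).toMonoidHom (RedPts.gmU x), RedPts.gm_injective (by
    rw [gmQ, RedPts.gmFn_gmPt]
    exact (fn j R).symm_apply_apply _)⟩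

theorem gmQ_injective : Function.Injective (gmQ j (R := R)) := fun a b h =>
  Units.ext ((fn j R).symm.injective (by simpa [gmQ, RedPts.gmFn_gmPt] using congrArg Red.gmFn h))

/-- Descent of a point along a flat chart. -/
theorem exists_section_of_eq [IsOpenImmersion j] {X : Over S} [Module.Flat A R] (y : QA j R ⟶ X)
    (hy : qmap j (Algebra.TensorProduct.includeLeft : R →ₐ[A] R ⊗[A] R) ≫ y =
      qmap j Algebra.TensorProduct.includeRight ≫ y)
    (V : (Spec (CommRingCat.of A)).Opens)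
    (hV : Set.range (PrimeSpectrum.comap (algebraMap A R)) = SetLike.coe V) :
    ∃ s : (V : Scheme.{u}) ⟶ X.left, s ≫ X.hom = V.ι ≫ j := by
  let p := Spec.map (CommRingCat.ofHom (algebraMap A R))
  have hr : Set.range p ⊆ Set.range V.ι := by
    rw [Scheme.Opens.range_ι]; exact hV.le
  let q : Spec (CommRingCat.of R) ⟶ (V : Scheme.{u}) := IsOpenImmersion.lift V.ι p hr
  have hq : q ≫ V.ι = p := IsOpenImmersion.lift_fac _ _ _
  haveI : Flat p := HasRingHomProperty.Spec_iff.2 (RingHom.flat_algebraMap_iff.2 ‹_›)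
  haveI : Flat q := MorphismProperty.of_postcomp (W := @Flat) (W' := @IsOpenImmersion) q V.ι
    inferInstance (show Flat (q ≫ V.ι) by rw [hq]; infer_instance)
  haveI : QuasiCompact q := by
    have : QuasiCompact (q ≫ V.ι) := by rw [hq]; infer_instance
    exact QuasiCompact.of_comp q V.ι
  haveI : Surjective q := ⟨fun v => by
    obtain ⟨z, hz⟩ : (v.1 : PrimeSpectrum A) ∈ Set.range (PrimeSpectrum.comap (algebraMap A R)) :=
      hV.ge v.2
    refine ⟨z, V.ι.isOpenEmbedding.injective ?_⟩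
    rw [← Scheme.Hom.comp_apply, hq]
    exact hz⟩
  have key : ∀ {Z : Scheme.{u}} (g₁ g₂ : Z ⟶ Spec (CommRingCat.of R)), g₁ ≫ q = g₂ ≫ q →
      g₁ ≫ y.left = g₂ ≫ y.left := by
    intro Z g₁ g₂ h
    have h' : g₁ ≫ p = g₂ ≫ p := by rw [← hq, reassoc_of% h]
    let l := pullback.lift g₁ g₂ h' ≫ (pullbackSpecIso A R R).hom
    have h₁ : l ≫ Spec.map (CommRingCat.ofHom (Algebra.TensorProduct.includeLeft : R →ₐ[A] R ⊗[A] R).toRingHom) = g₁ := by
      rw [Category.assoc]
      erw [pullbackSpecIso_hom_fst]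
      exact pullback.lift_fst _ _ _
    have h₂ : l ≫ Spec.map (CommRingCat.ofHom (Algebra.TensorProduct.includeRight : R →ₐ[A] R ⊗[A] R).toRingHom) = g₂ := by
      rw [Category.assoc]
      erw [pullbackSpecIso_hom_snd]
      exact pullback.lift_snd _ _ _
    rw [← h₁, ← h₂, Category.assoc, Category.assoc]
    exact congrArg (l ≫ ·) (congrArg CommaMorphism.left hy)
  refine ⟨EffectiveEpi.desc q y.left key, ?_⟩
  rw [← cancel_epi q, EffectiveEpi.fac_assoc, reassoc_of% hq]
  exact Over.w y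

section Torsor

variable {B : Type u} [CommRing B] [Algebra A B]

/-- The three maps into the triple tensor product. -/
abbrev a12 : B ⊗[A] B →ₐ[A] B ⊗[A] (B ⊗[A] B) :=
  Algebra.TensorProduct.map (AlgHom.id A B) Algebra.TensorProduct.includeLeft

/-- The second map into the triple tensor product. -/
abbrev a13 : B ⊗[A] B →ₐ[A] B ⊗[A] (B ⊗[A] B) :=
  Algebra.TensorProduct.map (AlgHom.id A B) Algebra.TensorProduct.includeRight

/-- The third map into the triple tensor product. -/
abbrev a23 : B ⊗[A] B →ₐ[A] B ⊗[A] (B ⊗[A] B) := Algebra.TensorProduct.includeRight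

variable {G X : Over S} [GrpObj G] {a : AlgGrp.Action G X}

/-- The difference of the two pullbacks of a point, with its cocycle condition. -/
theorem exists_diff (h : NonAbH1.IsPseudoTorsorSch a) (x : QA j B ⟶ X) :
    ∃ g : QA j (B ⊗[A] B) ⟶ G,
      lift g (qmap j Algebra.TensorProduct.includeLeft ≫ x) ≫ a.act =
        qmap j Algebra.TensorProduct.includeRight ≫ x ∧
      qmap j a13 ≫ g = (qmap j a23 ≫ g) * (qmap j a12 ≫ g) := by
  obtain ⟨g, hg, -⟩ := GITLib.existsUnique_diff h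
    (qmap j (Algebra.TensorProduct.includeLeft : B →ₐ[A] B ⊗[A] B) ≫ x)
    (qmap j Algebra.TensorProduct.includeRight ≫ x)
  refine ⟨g, hg, ?_⟩
  have hk : ∀ f : B ⊗[A] B →ₐ[A] B ⊗[A] (B ⊗[A] B),
      lift (qmap j f ≫ g) (qmap j (f.comp Algebra.TensorProduct.includeLeft) ≫ x) ≫ a.act =
        qmap j (f.comp Algebra.TensorProduct.includeRight) ≫ x := fun f => by
    rw [← qmap_comp' j _ f x, ← qmap_comp' j _ f x, ← hg, ← GITLib.comp_lift_act]
  have e₁ : (a12 (A := A) (B := B)).comp Algebra.TensorProduct.includeLeft =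
      (a13 (A := A) (B := B)).comp Algebra.TensorProduct.includeLeft := by ext b; simp
  have e₂ : (a12 (A := A) (B := B)).comp Algebra.TensorProduct.includeRight =
      (a23 (A := A) (B := B)).comp Algebra.TensorProduct.includeLeft := by ext b; simp
  have e₃ : (a13 (A := A) (B := B)).comp Algebra.TensorProduct.includeRight =
      (a23 (A := A) (B := B)).comp Algebra.TensorProduct.includeRight := by ext b; simp
  refine (GITLib.existsUnique_diff h _ _).unique (hk a13) ?_
  rw [a.lift_mul_act, ← e₁, hk a12, e₂, hk a23, e₃]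

/-- Torsors under the additive group have sections over affine charts. -/
theorem exists_section_ga [IsOpenImmersion j] {X : Over S} {a : AlgGrp.Action (Red.Ga S) X}
    (h : NonAbH1.IsPseudoTorsorSch a) [Module.FaithfullyFlat A B] (x : QA j B ⟶ X)
    (p : Spec (CommRingCat.of A)) :
    ∃ V : (Spec (CommRingCat.of A)).Opens, p ∈ V ∧
      ∃ s : (V : Scheme.{u}) ⟶ X.left, s ≫ X.hom = V.ι ≫ j := by
  obtain ⟨g, hg, hco⟩ := exists_diff j h x
  obtain ⟨t, rfl⟩ := exists_gaQ j g
  rw [comp_gaQ, comp_gaQ, comp_gaQ, ← gaQ_mul] at hco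
  have ht : WittExt.Amitsur.d2 A B t = 0 := by
    have hd : ∀ z : B ⊗[A] B, WittExt.Amitsur.d2 A B z = a23 z - a13 z + a12 z := fun z => by
      induction z using TensorProduct.induction_on with
      | zero => simp
      | tmul b c => simp [WittExt.Amitsur.d2]
      | add z w hz hw => rw [map_add, hz, hw, map_add, map_add, map_add]; abel
    rw [hd, gaQ_injective j hco]; abel
  obtain ⟨b, hb⟩ := WittExt.Amitsur.exists_of_cocycle ht
  refine ⟨⊤, trivial, exists_section_of_eq j (lift (gaQ j (-b)) x ≫ a.act) ?_ ⊤ ?_⟩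
  · rw [GITLib.comp_lift_act, GITLib.comp_lift_act, ← hg, ← a.lift_mul_act, comp_gaQ, comp_gaQ, ← gaQ_mul]
    congr 3
    simp [hb, TensorProduct.neg_tmul, TensorProduct.tmul_neg]
    abel
  · exact (PrimeSpectrum.comap_surjective_of_faithfullyFlat (A := A) (B := B)).range_eq.trans rfl

/-- A unit cocycle is locally a coboundary. -/
theorem exists_unit_trivialisation [Module.FaithfullyFlat A B] (c : (B ⊗[A] B)ˣ)
    (hc : a13 (c : B ⊗[A] B) = a23 (c : B ⊗[A] B) * a12 (c : B ⊗[A] B)) (p : PrimeSpectrum A) :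
    ∃ (e : A) (m : B), e ∉ p.asIdeal ∧ (c : B ⊗[A] B) * (m ⊗ₜ 1) = 1 ⊗ₜ m ∧
      IsUnit (algebraMap B (Localization.Away (algebraMap A B e)) m) := by
  let δ : B →ₗ[A] B ⊗[A] B :=
    (LinearMap.mulLeft A (c : B ⊗[A] B)).comp ((TensorProduct.mk A B B).flip 1) - TensorProduct.mk A B B 1
  let M : Submodule A B := LinearMap.ker δ
  have hM : ∀ {m : B}, m ∈ M → (c : B ⊗[A] B) * (m ⊗ₜ 1) = 1 ⊗ₜ m := fun {m} hm => by
    simpa [M, δ, sub_eq_zero] using hm
  -- `M` generates the unit ideal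
  have hspan : Ideal.span (M : Set B) = ⊤ := by
    have hex := Module.Flat.lTensor_exact B (LinearMap.exact_subtype_ker_map δ)
    have hδ : ∀ z : B ⊗[A] B, δ.lTensor B z = a23 (c : B ⊗[A] B) * a12 z - a13 z := fun z => by
      induction z using TensorProduct.induction_on with
      | zero => simp
      | tmul b d => simp [δ, TensorProduct.tmul_sub]
      | add z w hz hw => rw [map_add, hz, hw, map_add, map_add, mul_add]; abel
    obtain ⟨w, hw⟩ := (hex (c : B ⊗[A] B)).1 (by rw [hδ, hc, sub_self])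
    let mu : B ⊗[A] (B ⊗[A] B) →ₐ[A] B :=
      (Algebra.TensorProduct.lmul' A).comp (Algebra.TensorProduct.map (AlgHom.id A B) (Algebra.TensorProduct.lmul' A))
    have hμ : ∀ f : B ⊗[A] B →ₐ[A] B ⊗[A] (B ⊗[A] B), (f = a12 ∨ f = a13 ∨ f = a23) →
        mu.comp f = Algebra.TensorProduct.lmul' A := by
      rintro f (rfl | rfl | rfl) <;> ext b <;> simp [mu]
    have hone : Algebra.TensorProduct.lmul' A (c : B ⊗[A] B) = 1 := by
      have h1 := congrArg mu hc
      rw [map_mul, ← AlgHom.comp_apply, ← AlgHom.comp_apply, ← AlgHom.comp_apply, hμ _ (by simp),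
        hμ _ (by simp), hμ _ (by simp)] at h1
      exact ((c.isUnit.map _).mul_eq_left).1 h1.symm
    rw [Ideal.eq_top_iff_one, ← hone, ← hw]
    clear hw
    induction w using TensorProduct.induction_on with
    | zero => simp
    | tmul b m => simpa using Ideal.mul_mem_left _ b (Ideal.subset_span m.2)
    | add z w hz hw => rw [map_add, map_add]; exact add_mem hz hw
  obtain ⟨q, hq⟩ := PrimeSpectrum.comap_surjective_of_faithfullyFlat (A := A) (B := B) p
  obtain ⟨m, hm, hmq⟩ : ∃ m ∈ M, m ∉ q.asIdeal := by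
    by_contra hne
    push Not at hne
    exact q.isPrime.ne_top (top_le_iff.1 (hspan ▸ Ideal.span_le.2 hne))
  let π : PrimeSpectrum B → PrimeSpectrum A := PrimeSpectrum.comap (algebraMap A B)
  have hsat : π ⁻¹' (π '' PrimeSpectrum.basicOpen m) = (PrimeSpectrum.basicOpen m : Set (PrimeSpectrum B)) := by
    refine subset_antisymm ?_ (Set.subset_preimage_image _ _)
    rintro q₁ ⟨q₂, hq₂, he⟩ hm₁
    obtain ⟨Q, hQ₁, hQ₂⟩ : ∃ Q : PrimeSpectrum (B ⊗[A] B),
        Q.comap (Algebra.TensorProduct.includeLeft : B →ₐ[A] B ⊗[A] B).toRingHom = q₁ ∧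
        Q.comap (Algebra.TensorProduct.includeRight : B →ₐ[A] B ⊗[A] B).toRingHom = q₂ := by
      obtain ⟨z, hz₁, hz₂⟩ := Scheme.Pullback.exists_preimage_pullback
        (f := Spec.map (CommRingCat.ofHom (algebraMap A B))) (g := Spec.map (CommRingCat.ofHom (algebraMap A B)))
        q₁ q₂ he.symm
      refine ⟨(pullbackSpecIso A B B).hom z, ?_, ?_⟩
      · exact (congrArg (fun f => f z) (pullbackSpecIso_hom_fst A B B)).trans hz₁
      · exact (congrArg (fun f => f z) (pullbackSpecIso_hom_snd A B B)).trans hz₂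
    apply hq₂
    rw [← hQ₂]
    show (1 : B) ⊗ₜ[A] m ∈ Q.asIdeal
    rw [← hM hm]
    refine Q.asIdeal.mul_mem_left _ ?_
    rw [← hQ₁] at hm₁
    exact hm₁
  have hopen : IsOpen (π '' PrimeSpectrum.basicOpen m) := by
    haveI : Flat (Spec.map (CommRingCat.ofHom (algebraMap A B))) :=
      HasRingHomProperty.Spec_iff.2 (RingHom.flat_algebraMap_iff.2 inferInstance)
    haveI : Surjective (Spec.map (CommRingCat.ofHom (algebraMap A B))) :=
      ⟨PrimeSpectrum.comap_surjective_of_faithfullyFlat⟩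
    refine (Flat.isQuotientMap_of_surjective (Spec.map (CommRingCat.ofHom (algebraMap A B)))).isOpen_preimage.1 ?_
    show IsOpen (π ⁻¹' (π '' _))
    rw [hsat]
    exact (PrimeSpectrum.basicOpen m).isOpen
  obtain ⟨_, ⟨e, rfl⟩, hpe, he⟩ :=
    PrimeSpectrum.isTopologicalBasis_basic_opens.exists_subset_of_mem_open
      (show p ∈ π '' PrimeSpectrum.basicOpen m from ⟨q, hmq, hq⟩) hopen
  refine ⟨e, m, hpe, hM hm, ?_⟩
  by_contra hu
  obtain ⟨P, hP, hmP⟩ := exists_max_ideal_of_mem_nonunits hu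
  have hP' : (PrimeSpectrum.comap (algebraMap B (Localization.Away (algebraMap A B e))) ⟨P, hP.isPrime⟩) ∈
      (PrimeSpectrum.basicOpen (algebraMap A B e) : Set (PrimeSpectrum B)) := by
    rw [← PrimeSpectrum.localization_away_comap_range (Localization.Away (algebraMap A B e))]
    exact ⟨_, rfl⟩
  exact (hsat.le (show _ ∈ π ⁻¹' (π '' PrimeSpectrum.basicOpen m) from he (show π (PrimeSpectrum.comap (algebraMap B (Localization.Away (algebraMap A B e))) ⟨P, hP.isPrime⟩) ∈ SetLike.coe (PrimeSpectrum.basicOpen e) from hP'))) hmP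

/-- Torsors under the multiplicative group have sections Zariski locally on affine charts. -/
theorem exists_section_gm [IsOpenImmersion j] {X : Over S} {a : AlgGrp.Action (Red.Gm S) X}
    (h : NonAbH1.IsPseudoTorsorSch a) [Module.FaithfullyFlat A B] (x : QA j B ⟶ X)
    (p : Spec (CommRingCat.of A)) :
    ∃ V : (Spec (CommRingCat.of A)).Opens, p ∈ V ∧
      ∃ s : (V : Scheme.{u}) ⟶ X.left, s ≫ X.hom = V.ι ≫ j := by
  obtain ⟨g, hg, hco⟩ := exists_diff j h x
  obtain ⟨c, rfl⟩ := exists_gmQ j g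
  rw [comp_gmQ, comp_gmQ, comp_gmQ, ← gmQ_mul] at hco
  obtain ⟨e, m, hep, hem, hum⟩ := exists_unit_trivialisation c (congrArg Units.val (gmQ_injective j hco)) p
  let R := Localization.Away (algebraMap A B e)
  let r : B →ₐ[A] R := IsScalarTower.toAlgHom A B R
  haveI : Module.Flat B R := IsLocalization.flat R (Submonoid.powers (algebraMap A B e))
  haveI : Module.Flat A R := Module.Flat.trans A B R
  obtain ⟨w, hμ⟩ : ∃ w : Rˣ, (w : R) = r m := ⟨hum.unit, rfl⟩
  let ψ : B ⊗[A] B →ₐ[A] R ⊗[A] R := Algebra.TensorProduct.map r r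
  have hψ₁ : ψ.comp Algebra.TensorProduct.includeLeft = Algebra.TensorProduct.includeLeft.comp r := by
    ext b; simp [ψ]
  have hψ₂ : ψ.comp Algebra.TensorProduct.includeRight = Algebra.TensorProduct.includeRight.comp r := by
    ext b; simp [ψ]
  have hgψ : lift (gmQ j (Units.map ψ.toMonoidHom c))
        (qmap j Algebra.TensorProduct.includeLeft ≫ qmap j r ≫ x) ≫ a.act =
      qmap j Algebra.TensorProduct.includeRight ≫ qmap j r ≫ x := by
    have := congrArg (qmap j ψ ≫ ·) hg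
    simp only [GITLib.comp_lift_act, comp_gmQ, qmap_comp'] at this
    rw [qmap_comp', qmap_comp', ← hψ₁, ← hψ₂]
    exact this
  let V : (Spec (CommRingCat.of A)).Opens := PrimeSpectrum.basicOpen e
  refine ⟨V, hep, exists_section_of_eq j (R := R) (lift (gmQ j w⁻¹) (qmap j r ≫ x) ≫ a.act) ?_ V ?_⟩
  · rw [GITLib.comp_lift_act, GITLib.comp_lift_act, ← hgψ, ← a.lift_mul_act, comp_gmQ, comp_gmQ, ← gmQ_mul]
    congr 3
    rw [map_inv, map_inv, eq_inv_mul_iff_mul_eq, mul_inv_eq_iff_eq_mul]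
    apply Units.ext
    rw [Units.val_mul]
    show Algebra.TensorProduct.includeRight (w : R) = ψ c * Algebra.TensorProduct.includeLeft (w : R)
    have := congrArg ψ hem
    rw [map_mul] at this
    simpa [ψ, hμ] using this.symm
  · show Set.range (PrimeSpectrum.comap (algebraMap A R)) = PrimeSpectrum.basicOpen e
    rw [IsScalarTower.algebraMap_eq A B R, PrimeSpectrum.comap_comp, Set.range_comp,
      PrimeSpectrum.localization_away_comap_range R (algebraMap A B e)]
    exact Set.image_preimage_eq (PrimeSpectrum.basicOpen e : Set (PrimeSpectrum A))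
      PrimeSpectrum.comap_surjective_of_faithfullyFlat

end Torsor

/-- An fpqc locally trivial object has points over faithfully flat algebras over affine opens. -/
theorem exists_point_affine {X : Over S} (h : NonAbH1.IsLocallyTrivialFor Scheme.fpqcPrecoverage X)
    {U : S.Opens} (hU : IsAffineOpen U) :
    ∃ (B : Type u) (_ : CommRing B) (_ : Algebra Γ(S, U) B), Module.FaithfullyFlat Γ(S, U) B ∧
      Nonempty (QA hU.fromSpec B ⟶ X) := by
  obtain ⟨R, hR, hs⟩ := h
  obtain ⟨J, W, c, rfl⟩ := R.exists_eq_ofArrows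
  let E : PreZeroHypercover S := ⟨J, W, c⟩
  have hR' : Presieve.ofArrows W c ∈ (Scheme.qcPrecoverage ⊓ Scheme.precoverage @Flat) S := hR
  haveI hqc : QuasiCompactCover E := Scheme.presieve₀_mem_qcPrecoverage_iff.1 hR'.1
  have hflat : ∀ i, Flat (c i) := ((Scheme.ofArrows_mem_precoverage_iff _).1 hR'.2).2
  obtain ⟨n, k, V, hV, hU'⟩ :=
    QuasiCompactCover.exists_isAffineOpen_of_isCompact E (U := U) hU.isCompact
  have : ∀ i, ∃ s : W (k i) ⟶ X.left, s ≫ X.hom = c (k i) := fun i => hs _ (Presieve.ofArrows.mk (k i))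
  choose s hs using this
  haveI : ∀ i, IsAffine (V i : Scheme.{u}) := hV
  have hle : ∀ i, (V i : (W (k i)).Opens) ≤ c (k i) ⁻¹ᵁ U := fun i x hx => by
    show (c (k i)).base x ∈ U
    rw [← SetLike.mem_coe, ← hU']
    exact Set.mem_iUnion.2 ⟨i, x, hx, rfl⟩
  let T : Scheme.{u} := ∐ fun i => (V i : Scheme.{u})
  let d : T ⟶ (U : Scheme.{u}) := Sigma.desc fun i => (c (k i)).resLE U (V i) (hle i)
  let σ : T ⟶ X.left := Sigma.desc fun i => (V i).ι ≫ s i
  have hσ : σ ≫ X.hom = d ≫ U.ι := Sigma.hom_ext _ _ fun i => by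
    simp only [σ, d, colimit.ι_desc_assoc, Cofan.mk_ι_app, Category.assoc, hs, Scheme.Hom.resLE_comp_ι]
  haveI : Flat d := IsZariskiLocalAtSource.sigmaDesc fun i => by
    haveI := hflat (k i)
    infer_instance
  haveI : Surjective d := ⟨fun z => by
    have hz : (z.1 : S) ∈ ⋃ i, E.f (k i) '' (V i) := by rw [hU']; exact z.2
    obtain ⟨i, x, hx, he⟩ := Set.mem_iUnion.1 hz
    refine ⟨(Sigma.ι (fun i => (V i : Scheme.{u})) i) ⟨x, hx⟩, U.ι.isOpenEmbedding.injective ?_⟩
    rw [← Scheme.Hom.comp_apply, ← Scheme.Hom.comp_apply]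
    simp only [d, colimit.ι_desc_assoc, Cofan.mk_ι_app, Category.assoc, Scheme.Hom.resLE_comp_ι]
    exact he⟩
  let m := T.isoSpec.inv ≫ d ≫ hU.isoSpec.hom
  obtain ⟨φ, hφ⟩ := Spec.map_surjective m
  algebraize [φ.hom]
  haveI : Flat (Spec.map φ) := by rw [hφ]; infer_instance
  haveI : Surjective (Spec.map φ) := by rw [hφ]; infer_instance
  haveI : Module.Flat Γ(S, U) Γ(T, ⊤) :=
    RingHom.flat_algebraMap_iff.1 (HasRingHomProperty.Spec_iff.1 (‹Flat (Spec.map φ)›))
  refine ⟨Γ(T, ⊤), inferInstance, inferInstance,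
    Module.FaithfullyFlat.of_comap_surjective (fun z => Surjective.surj (f := Spec.map φ) z), ⟨Over.homMk (T.isoSpec.inv ≫ σ) ?_⟩⟩
  show (T.isoSpec.inv ≫ σ) ≫ X.hom = Spec.map φ ≫ hU.fromSpec
  rw [hφ, Category.assoc, hσ]
  show T.isoSpec.inv ≫ d ≫ U.ι = (T.isoSpec.inv ≫ d ≫ hU.isoSpec.hom) ≫ hU.fromSpec
  rw [Category.assoc, Category.assoc, hU.isoSpec_hom, hU.toSpecΓ_fromSpec]

/-- A locally trivial object with sections over affine charts is Zariski locally trivial. -/
theorem zariski_of_charts {X : Over S} (h : NonAbH1.IsLocallyTrivialFor Scheme.fpqcPrecoverage X)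
    (key : ∀ {U : S.Opens} (hU : IsAffineOpen U) (B : Type u) [CommRing B] [Algebra Γ(S, U) B]
      [Module.FaithfullyFlat Γ(S, U) B] (_ : QA hU.fromSpec B ⟶ X) (p : Spec Γ(S, U)),
      ∃ V : (Spec Γ(S, U)).Opens, p ∈ V ∧
        ∃ s : (V : Scheme.{u}) ⟶ X.left, s ≫ X.hom = V.ι ≫ hU.fromSpec) :
    NonAbH1.IsLocallyTrivialFor Scheme.zariskiPrecoverage X := by
  have : ∀ x : S, ∃ (V : Scheme.{u}) (l : V ⟶ S), IsOpenImmersion l ∧ x ∈ Set.range l ∧
      NonAbH1.HasSectionOver X l := fun x => by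
    obtain ⟨U, hU, hx, -⟩ := exists_isAffineOpen_mem_and_subset (show x ∈ (⊤ : S.Opens) from trivial)
    obtain ⟨p, hp⟩ : x ∈ Set.range hU.fromSpec := by rw [hU.range_fromSpec]; exact hx
    obtain ⟨B, _, _, hff, ⟨y⟩⟩ := exists_point_affine h hU
    haveI := hff
    obtain ⟨V, hpV, s, hs⟩ := key hU B y p
    exact ⟨_, V.ι ≫ hU.fromSpec, inferInstance, ⟨⟨p, hpV⟩, hp⟩, s, hs⟩
  choose V l hl hmem hsec using this
  refine ⟨Presieve.ofArrows V l, ?_, ?_⟩
  · rw [Scheme.zariskiPrecoverage, Scheme.ofArrows_mem_precoverage_iff]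
    exact ⟨fun x => ⟨x, hmem x⟩, hl⟩
  · rintro S' f ⟨x⟩
    exact hsec x

end Groth.Agent.SGA1Torsor
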